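import Mathlib.FieldTheory.Galois.Basic
import Mathlib.GroupTheory.Index
import Mathlib.SetTheory.Cardinal.Finite

/-!
# The field cut out by a finite permutation representation of a Galois group
-/

set_option autoImplicit false

namespace K472.GalKer

variable {F K : Type*} [Field F] [Field K] [Algebra F K] [FiniteDimensional F K] [IsGalois F K]

theorem finrank_fixedField (H : Subgroup (K ≃ₐ[F] K)) :
    Module.finrank F (IntermediateField.fixedField H) = H.index := by
  have h1 := IntermediateField.finrank_fixedField_eq_card H
  have h2 : Module.finrank F (IntermediateField.fixedField H) *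
      Module.finrank (IntermediateField.fixedField H) K = Module.finrank F K := Module.finrank_mul_finrank _ _ _
  have h3 := IsGalois.card_aut_eq_finrank F K
  have h4 := H.card_mul_index
  rw [h1] at h2
  have h5 : 0 < Nat.card H := Nat.card_pos
  rw [← h3, ← h4, mul_comm] at h2
  exact Nat.eq_of_mul_eq_mul_left h5 h2

theorem exists_field {T : Type*} [Finite T] (ρ : (K ≃ₐ[F] K) →* Equiv.Perm T) :
    ∃ E : IntermediateField F K, Module.finrank F E ≤ (Nat.card T).factorial ∧
      ∀ σ : K ≃ₐ[F] K, (∀ x ∈ E, σ x = x) → ρ σ = 1 := by
  refine ⟨IntermediateField.fixedField ρ.ker, ?_, fun σ hσ => ?_⟩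
  · classical
    have := Fintype.ofFinite T
    have hc : Nat.card (Equiv.Perm T) = (Nat.card T).factorial := by
      rw [Nat.card_eq_fintype_card, Fintype.card_perm, Nat.card_eq_fintype_card]
    rw [finrank_fixedField, Subgroup.index_ker, ← hc]
    exact Nat.card_le_card_of_injective _ Subtype.val_injective
  · have h : σ ∈ (IntermediateField.fixedField ρ.ker).fixingSubgroup := by
      rw [IntermediateField.mem_fixingSubgroup_iff]
      exact hσ
    rw [IntermediateField.fixingSubgroup_fixedField] at h
    exact h

end K472.GalKer
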