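import Groth.Agent.Picfga.PicBridge

/-!
# Counting torsion classes: modules versus the Picard group
-/

set_option autoImplicit false
universe u

open CategoryTheory CategoryTheory.Limits AlgebraicGeometry

namespace K472.PicCount

open Groth.Agent.Grpsch.PicGrp Groth.Agent.Picfga.PicBridge

/-- the set of classes of invertible modules killed by `n` -/
def tors (X : Scheme.{u}) (n : ℕ) : Set (PicF.Cl X) :=
  {c | ∃ M : X.Modules, PicF.cl M = c ∧ PicF.IsInvertible M ∧
    Nonempty (CohB1.tensorPow M n ≅ Coh.structureModule X)}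

theorem card_tors (X : Scheme.{u}) (n : ℕ) :
    Nat.card (tors X n) = Nat.card {c : Pic X // c ^ n = 1} := by
  symm
  refine Nat.card_eq_of_bijective (fun c => (⟨ofPic c.1, ?_⟩ : tors X n)) ⟨?_, ?_⟩
  · obtain ⟨c, hc⟩ := c
    obtain ⟨M, hM, rfl⟩ := exists_mk c
    refine ⟨M, rfl, hM, ?_⟩
    rw [← mk_tensorPow, mk_eq_one_iff] at hc
    exact hc
  · intro a b h
    exact Subtype.ext (ofPic_injective (congrArg Subtype.val h))
  · rintro ⟨c, M, rfl, hM, h⟩
    refine ⟨⟨mk M hM, ?_⟩, rfl⟩
    rw [← mk_tensorPow, mk_eq_one_iff]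
    exact h

end K472.PicCount
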