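import Groth.Agent.Etcore.PicTors
import Groth.Prelude.Def_AbDual

/-!
# All the torsion of the Picard group of a curve is that of its Jacobian

`exists_jac`: the variant of `Etcore.PicTors.card_torsion` for an arbitrary nonzero `n`.
-/

set_option autoImplicit false
universe u
open CategoryTheory CategoryTheory.Limits AlgebraicGeometry MonoidalCategory CartesianMonoidalCategory
  MonObj

namespace K472.PicJac

open Groth.Agent Groth.Agent.Etcore Groth.Agent.Etcore.PicTors Groth.Agent.Grpsch.PicGrp
  Groth.Agent.Etcore.DegZero Groth.Agent.Etcore.FibreDeg Groth.Agent.Etcore.JacGrp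

theorem exists_jac {k : Type u} [Field k] [IsAlgClosed k] (C : Scheme.{u})
    (f : C ⟶ Spec (CommRingCat.of k)) [IsProper f] [Smooth f] [IsIntegral C]
    (hdim : topologicalKrullDim C = 1) [C.Over (Spec (CommRingCat.of k))]
    (hf : C ↘ Spec (CommRingCat.of k) = f) :
    ∃ (J : Over (Spec (CommRingCat.of k))) (_ : GrpObj J) (_ : IsCommMonObj J),
      IsProper J.hom ∧ Smooth J.hom ∧ GeometricallyIntegral J.hom ∧
      topologicalKrullDim J.left = ((Module.finrank k (Coh.HH C (Coh.structureModule C) 1) : ℕ) : WithBot ℕ∞) ∧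
      ∀ n : ℕ, n ≠ 0 → Nat.card {c : Pic C // c ^ n = 1} =
        Nat.card (AbDual.torsPts J n (𝟙_ (Over (Spec (CommRingCat.of k))))) := by
  have hirr : GeometricallyIrreducible f :=
    Fdesc.GeomAlgClosed.geometricallyIrreducible_of_irreducibleSpace f
  obtain ⟨σ, hσ⟩ := Picfga.RatPts.exists_section_of_smooth f (Classical.arbitrary C)
  obtain ⟨J, ξ, hJp, hJs, hJi, hξ, huniv⟩ := S3238.result k C f hdim σ hσ
  have hJg : GeometricallyIntegral J.hom := Flat2B.SmoothGeom.geometricallyIntegral_of_smooth J.hom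
  have hJd := S3239.result k C f hdim σ hσ hf J ξ hξ huniv
  let hJc := commGrpObj f hdim σ hσ ξ hξ huniv
  let hJgr := grpObj f hdim σ hσ ξ hξ huniv
  have hcm : IsCommMonObj J := hJc.toIsCommMonObj
  refine ⟨J, hJgr, hcm, hJp, hJs, hJg, by exact_mod_cast hJd, fun n hn => ?_⟩
  let T : Over (Spec (CommRingCat.of k)) := Over.mk (𝟙 (Spec (CommRingCat.of k)))
  let e : (T ⟶ J) ≃* rig0 f hdim σ hσ T := homEquiv f hdim σ hσ ξ hξ huniv T
  let q : PicF.XT f T ⟶ C := pullback.fst f T.hom
  have hTiso : IsIso T.hom := inferInstanceAs (IsIso (𝟙 _))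
  have hq : IsIso q := inferInstance
  have hn0 : (n : ℤ) ≠ 0 := by exact_mod_cast hn
  have hpow : ∀ (a : Pic (PicF.XT f T)) (m : ℕ) (t : T.left), fdeg f T t (a ^ m) = m * fdeg f T t a := by
    intro a m t
    induction m with
    | zero => rw [pow_zero, fdeg_one]; simp
    | succ m ih => rw [pow_succ, fdeg_mul f hdim, ih]; push_cast; ring
  have hmem : ∀ a : Pic (PicF.XT f T), a ^ n = 1 → a ∈ rig0 f hdim σ hσ T := by
    intro a ha
    refine ⟨?_, fun t => ?_⟩
    · exact pic_spec_local k _
    · have := hpow a n t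
      rw [ha, fdeg_one] at this
      exact (mul_eq_zero.mp this.symm).resolve_left hn0
  refine Nat.card_eq_of_bijective
    (fun c : {c : Pic C // c ^ n = 1} => (⟨e.symm ⟨pull q c.1, hmem _ (by
      rw [← map_pow, c.2, map_one])⟩, by
        rw [AbDual.mem_torsPts, ← map_pow]
        have : (⟨pull q c.1, hmem _ (by rw [← map_pow, c.2, map_one])⟩ : rig0 f hdim σ hσ T) ^ n = 1 := by
          apply Subtype.ext
          change (pull q c.1) ^ n = 1
          rw [← map_pow, c.2, map_one]
        rw [this, map_one]⟩ : AbDual.torsPts J n T)) ⟨?_, ?_⟩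
  · intro c c' h
    have h1 := congrArg Subtype.val h
    have h2 := congrArg Subtype.val (e.symm.injective h1)
    exact Subtype.ext ((pull_bijective q).1 h2)
  · rintro ⟨x, hx⟩
    rw [AbDual.mem_torsPts] at hx
    obtain ⟨c, hc⟩ := (pull_bijective q).2 (e x).1
    have hcn : c ^ n = 1 := by
      apply (pull_bijective q).1
      rw [map_pow, hc, map_one]
      have : (e x) ^ n = 1 := by rw [← map_pow, hx, map_one]
      exact congrArg Subtype.val this
    refine ⟨⟨c, hcn⟩, Subtype.ext ?_⟩
    change e.symm _ = x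
    rw [MulEquiv.symm_apply_eq]
    exact Subtype.ext hc

end K472.PicJac
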