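import Groth.Agent.Models.H74.PicTorsGalois
import Groth.Agent.S1157
import Groth.Agent.Curves.K472.GalKer
import Groth.Agent.Curves.K472.PicCount

/-!
# The field of definition of the torsion of the Picard group of a curve
-/

set_option autoImplicit false
universe u

open CategoryTheory CategoryTheory.Limits AlgebraicGeometry

namespace K472.PicTorsDeg

open Groth.Agent.Grpsch.PicGrp Groth.Agent.Models.H74 Groth.Agent.Models.H74.PicInj
  Groth.Agent.Models.H74.PicTorsGalois Groth.Agent.VarietyA.PicLimitAlg Groth.Agent.Picfga.PicBridge Groth.Agent.Pi1A.FGLimit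

section Act

variable {F K : Type u} [Field F] [Field K] [Algebra F K] {C : Scheme.{u}} (f : C ⟶ Spec (CommRingCat.of F))

theorem twistAut_fst (σ : K ≃ₐ[F] K) : PicF2.twistAut f σ ≫ pullback.fst _ _ = pullback.fst _ _ := by
  rw [PicF2.twistAut, pullback.map, pullback.lift_fst, Category.comp_id]

theorem twistAut_snd (σ : K ≃ₐ[F] K) : PicF2.twistAut f σ ≫ pullback.snd _ _ =
    pullback.snd _ _ ≫ Spec.map (CommRingCat.ofHom (σ : K →+* K)) := by
  rw [PicF2.twistAut, pullback.map, pullback.lift_snd]

theorem twistAut_one : PicF2.twistAut f (1 : K ≃ₐ[F] K) = 𝟙 _ := by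
  apply pullback.hom_ext
  · rw [twistAut_fst, Category.id_comp]
  · rw [twistAut_snd, Category.id_comp]
    exact (congrArg _ (Spec.map_id _)).trans (Category.comp_id _)

theorem twistAut_mul (σ τ : K ≃ₐ[F] K) : PicF2.twistAut f (σ * τ) = PicF2.twistAut f σ ≫ PicF2.twistAut f τ := by
  apply pullback.hom_ext
  · rw [twistAut_fst, Category.assoc, twistAut_fst, twistAut_fst]
  · rw [twistAut_snd, Category.assoc, twistAut_snd, ← Category.assoc, twistAut_snd, Category.assoc, ← Spec.map_comp]
    rfl

/-- the torsion classes over `K` -/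
abbrev T (K : Type u) [Field K] [Algebra F K] (n : ℕ) : Type (u + 1) := {c : Pic (pullback f (toBase F K)) // c ^ n = 1}

/-- the action of the Galois group on the torsion classes -/
noncomputable def act (n : ℕ) : (K ≃ₐ[F] K) →* Function.End (T f K n) where
  toFun σ := fun c => ⟨pull (PicF2.twistAut f σ) c.1, by rw [← map_pow, c.2, map_one]⟩
  map_one' := by
    funext c
    apply Subtype.ext
    change pull (PicF2.twistAut f (1 : K ≃ₐ[F] K)) c.1 = c.1
    rw [twistAut_one, pull_id]
  map_mul' σ τ := by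
    funext c
    apply Subtype.ext
    change pull (PicF2.twistAut f (σ * τ)) c.1 = pull (PicF2.twistAut f σ) (pull (PicF2.twistAut f τ) c.1)
    rw [twistAut_mul, pull_comp]

end Act

variable {F : Type u} [Field F] {C : Scheme.{u}} (f : C ⟶ Spec (CommRingCat.of F))

theorem card_eq_of_fixed {K : Type u} [Field K] [Algebra F K] [FiniteDimensional F K] [IsGalois F K]
    [QuasiCompact f] [QuasiSeparated f] [IsIso f.appTop] (x : Spec (CommRingCat.of F) ⟶ C) (hx : x ≫ f = 𝟙 _)
    (n : ℕ) (E : IntermediateField F K)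
    (hE : ∀ σ : K ≃ₐ[F] K, (∀ x ∈ E, σ x = x) → ∀ c : Pic (pullback f (toBase F K)), c ^ n = 1 →
      pull (PicF2.twistAut f σ) c = c) :
    Nat.card (T f E n) = Nat.card (T f K n) := by
  have hpb := isPullback_bcMap f E.val
  have hpb0 := IsPullback.of_hasPullback f (toBase F E)
  have hH := CurveBC.isIso_appTop f hpb0
  refine card_eq (bcMap f E.val) (pull_injective (L := K) (pullback.snd f (toBase F E)) hpb) n
    (fun c hc => ?_)
  -- descent along `K / E`
  let f2 : pullback f (toBase F E) ⟶ Spec (CommRingCat.of E) := pullback.snd f (toBase F E)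
  let e : pullback f (toBase F K) ≅ pullback f2 (Spec.map (CommRingCat.ofHom (algebraMap E K))) :=
    hpb.isoPullback
  have he1 : e.hom ≫ pullback.fst _ _ = bcMap f E.val := hpb.isoPullback_hom_fst
  have he2 : e.hom ≫ pullback.snd _ _ = pullback.snd f (toBase F K) := hpb.isoPullback_hom_snd
  let x2 : Spec (CommRingCat.of E) ⟶ pullback f (toBase F E) :=
    pullback.lift (Spec.map (CommRingCat.ofHom (algebraMap F E)) ≫ x) (𝟙 _) (by
      rw [Category.assoc, hx, Category.comp_id, Category.id_comp])
  have hx2 : x2 ≫ f2 = 𝟙 _ := pullback.lift_snd _ _ _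
  have : CompactSpace (pullback f (toBase F E) : Scheme.{u}) :=
    (quasiCompact_iff_compactSpace f2).mp inferInstance
  have : QuasiSeparatedSpace (pullback f (toBase F E) : Scheme.{u}) :=
    (quasiSeparated_iff_quasiSeparatedSpace f2).mp inferInstance
  have hcomm : ∀ τ : K ≃ₐ[E] K, PicF2.twistAut f2 τ ≫ e.inv =
      e.inv ≫ PicF2.twistAut f (τ.restrictScalars F) := by
    intro τ
    rw [Iso.eq_inv_comp, ← Category.assoc, Iso.comp_inv_eq]
    apply pullback.hom_ext
    · rw [Category.assoc, twistAut_fst, he1, Category.assoc, he1]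
      apply pullback.hom_ext
      · rw [Category.assoc, pullback.lift_fst, twistAut_fst]
      · rw [Category.assoc, pullback.lift_snd, ← Category.assoc, twistAut_snd, Category.assoc, ← Spec.map_comp]
        congr 2
        ext y
        exact (τ.commutes y).symm
    · rw [Category.assoc, twistAut_snd, ← Category.assoc, he2, Category.assoc, he2, twistAut_snd]
      rfl
  obtain ⟨b, hb, hb'⟩ := Groth.Agent.S1157.result E (pullback f (toBase F E)) f2 hH x2 hx2 K
    (ofPic (pull e.inv c)) (isInvertibleCl_ofPic _) (fun τ => by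
      rw [← ofPic_pull, ← pull_comp, hcomm, pull_comp, hE _ (fun y hy => τ.commutes ⟨y, hy⟩) c hc])
  obtain ⟨b, rfl⟩ := exists_ofPic hb
  refine ⟨b, ?_⟩
  rw [← ofPic_pull] at hb'
  have h1 := ofPic_injective hb'
  rw [← he1, pull_comp, h1, ← pull_comp, e.hom_inv_id, pull_id]

theorem exists_field (hC : Curve.IsSmoothProperCurve F C f) [IsIso f.appTop]
    (x : Spec (CommRingCat.of F) ⟶ C) (hx : x ≫ f = 𝟙 _) (n : ℕ) (hn : (n : F) ≠ 0) :
    ∃ (E : Type u) (_ : Field E) (_ : Algebra F E), FiniteDimensional F E ∧ Algebra.IsSeparable F E ∧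
      Module.finrank F E ≤ (n ^ (2 * Models.curveGenus F C f)).factorial ∧
      Nat.card (T f E n) = n ^ (2 * Models.curveGenus F C f) := by
  obtain ⟨K, _, _, _, _, hcard⟩ := exists_galois f hC n hn
  have hn0 : n ≠ 0 := fun h => hn (by rw [h, Nat.cast_zero])
  have hfin : Finite (T f K n) :=
    Nat.finite_of_card_ne_zero (by
      change Nat.card {c : Pic (pullback f (Spec.map (CommRingCat.ofHom (algebraMap F K)))) // c ^ n = 1} ≠ 0
      rw [hcard]; exact pow_ne_zero _ hn0)
  have hcard' : Nat.card (T f K n) = n ^ (2 * Models.curveGenus F C f) := hcard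
  have hpr : IsProper f := hC.1
  obtain ⟨E, h1, h2⟩ := GalKer.exists_field (act f n : (K ≃ₐ[F] K) →* Function.End (T f K n)).toHomPerm
  refine ⟨E, inferInstance, inferInstance, inferInstance, inferInstance, hcard' ▸ h1, ?_⟩
  rw [← hcard']
  refine card_eq_of_fixed f x hx n E (fun σ hσ c hc => ?_)
  have h3 := congrArg (fun k : Equiv.Perm (T f K n) => (k ⟨c, hc⟩).1) (h2 σ hσ)
  exact h3

/-- the isomorphism `X_E ≅ (X_F)_E` is an isomorphism on torsion classes -/
theorem card_tower {k : Type u} [Field k] {X : Scheme.{u}} (f : X ⟶ Spec (CommRingCat.of k))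
    (F E : Type u) [Field F] [Algebra k F] [Field E] [Algebra F E] [Algebra k E] [IsScalarTower k F E] (n : ℕ) :
    Nat.card (T f E n) = Nat.card (T (pullback.snd f (toBase k F)) E n) := by
  let f1 : pullback f (toBase k F) ⟶ Spec (CommRingCat.of F) := pullback.snd f (toBase k F)
  have hpb2 := isPullback_bcMap f (IsScalarTower.toAlgHom k F E)
  let e : pullback f (toBase k E) ≅ pullback f1 (toBase F E) := hpb2.isoPullback
  symm
  refine Nat.card_eq_of_bijective (fun c : T f1 E n => (⟨pull e.hom c.1, by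
    rw [← map_pow, c.2, map_one]⟩ : T f E n)) ⟨fun a b h => ?_, fun c => ?_⟩
  · exact Subtype.ext ((Groth.Agent.Etcore.PicTors.pull_bijective e.hom).1 (congrArg Subtype.val h))
  · obtain ⟨a, ha⟩ := (Groth.Agent.Etcore.PicTors.pull_bijective e.hom).2 c.1
    refine ⟨⟨a, ?_⟩, Subtype.ext ha⟩
    apply (Groth.Agent.Etcore.PicTors.pull_bijective e.hom).1
    rw [map_pow, ha, c.2, map_one]

theorem final {k : Type u} [Field k] {X : Scheme.{u}} (f : X ⟶ Spec (CommRingCat.of k))
    (hC : Curve.IsSmoothProperCurve k X f) [IsIso f.appTop]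
    {F : Type u} [Field F] [Algebra k F] [FiniteDimensional k F] [Algebra.IsSeparable k F]
    (y : Spec (CommRingCat.of F) ⟶ X) (hy : y ≫ f = toBase k F) (n : ℕ) (hn : (n : k) ≠ 0) :
    ∃ (k' : Type u) (_ : Field k') (_ : Algebra k k'), FiniteDimensional k k' ∧ Algebra.IsSeparable k k' ∧
      Module.finrank k k' ≤ Module.finrank k F * (n ^ (2 * Models.curveGenus k X f)).factorial ∧
      (∃ x : Spec (CommRingCat.of k') ⟶ pullback f (toBase k k'), x ≫ pullback.snd _ _ = 𝟙 _) ∧
      Nat.card (T f k' n) = n ^ (2 * Models.curveGenus k X f) := by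
  have hpr : IsProper f := hC.1
  let f1 : pullback f (toBase k F) ⟶ Spec (CommRingCat.of F) := pullback.snd f (toBase k F)
  have hpb := IsPullback.of_hasPullback f (toBase k F)
  have hC1 := CurveBC.isSmoothProperCurve f hpb hC
  have hH1 := CurveBC.isIso_appTop f hpb
  have hg1 := CurveBC.curveGenus_eq f hpb
  let x1 : Spec (CommRingCat.of F) ⟶ pullback f (toBase k F) :=
    pullback.lift y (𝟙 _) (by rw [hy, Category.id_comp])
  have hx1 : x1 ≫ f1 = 𝟙 _ := pullback.lift_snd _ _ _
  have hnF : (n : F) ≠ 0 := by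
    rw [← map_natCast (algebraMap k F) n]
    exact (map_ne_zero (algebraMap k F)).mpr hn
  obtain ⟨E, _, _, hE1, hE2, hE3, hE4⟩ := exists_field f1 hC1 x1 hx1 n hnF
  rw [hg1] at hE3 hE4
  let _ : Algebra k E := ((algebraMap F E).comp (algebraMap k F)).toAlgebra
  have : IsScalarTower k F E := IsScalarTower.of_algebraMap_eq fun _ => rfl
  refine ⟨E, inferInstance, inferInstance, Module.Finite.trans F E, Algebra.IsSeparable.trans k F E, ?_,
    ⟨pullback.lift (Spec.map (CommRingCat.ofHom (algebraMap F E)) ≫ y) (𝟙 _) ?_, pullback.lift_snd _ _ _⟩,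
    ?_⟩
  · rw [← Module.finrank_mul_finrank k F E]
    exact Nat.mul_le_mul_left _ hE3
  · rw [Category.assoc, hy, Category.id_comp]
    exact (Spec.map_comp _ _).symm
  · rw [card_tower f F E n]
    exact hE4

end K472.PicTorsDeg
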